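import Mathlib

/-!
# Composition length through subnormal chains
-/

set_option autoImplicit false

namespace Cfsg.Agent.CompLen

open ArithmeticFunction

/-- `SnChain K l`: a chain `1 = H₀ < ⋯ < H_l = K`, each normal in the next. -/
inductive SnChain {G : Type*} [Group G] : Subgroup G → ℕ → Prop
  | base : SnChain ⊥ 0
  | step {K L : Subgroup G} {l : ℕ} : SnChain K l → K < L →
      (∀ x ∈ L, ∀ k ∈ K, x * k * x⁻¹ ∈ K) → SnChain L (l + 1)

variable {G : Type*} [Group G] {H : Type*} [Group H]

/-- The composition length. -/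
noncomputable def cl (G : Type*) [Group G] : ℕ := sSup {l | SnChain (⊤ : Subgroup G) l}

theorem SnChain.le_omega [Finite G] {K : Subgroup G} {l : ℕ} (h : SnChain K l) :
    l ≤ cardFactors (Nat.card K) := by
  induction h with
  | base => exact Nat.zero_le _
  | @step K L l _ hlt _ ih =>
    have hmul := Subgroup.relIndex_mul_relIndex ⊥ K L bot_le hlt.le
    rw [Subgroup.relIndex_bot_left, Subgroup.relIndex_bot_left] at hmul
    have h2 : K.relIndex L ≠ 1 := fun e => hlt.not_ge (Subgroup.relIndex_eq_one.1 e)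
    have h0 : K.relIndex L ≠ 0 := fun e => by
      rw [e, mul_zero] at hmul; exact Nat.card_pos.ne hmul
    have h1 : 1 ≤ cardFactors (K.relIndex L) := cardFactors_pos_iff_one_lt.2 (by omega)
    rw [← hmul, cardFactors_mul Nat.card_pos.ne' h0]
    omega

theorem chain_bdd [Finite G] : BddAbove {l | SnChain (⊤ : Subgroup G) l} :=
  ⟨cardFactors (Nat.card (⊤ : Subgroup G)), fun _ h => h.le_omega⟩

theorem le_cl [Finite G] {l : ℕ} (h : SnChain (⊤ : Subgroup G) l) : l ≤ cl G :=
  le_csSup chain_bdd h

/-- Appending one possibly trivial step. -/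
theorem SnChain.step_or {K L : Subgroup G} {l : ℕ} (h : SnChain K l) (hle : K ≤ L)
    (hn : ∀ x ∈ L, ∀ k ∈ K, x * k * x⁻¹ ∈ K) :
    (K = L ∧ SnChain L l) ∨ (K < L ∧ SnChain L (l + 1)) := by
  rcases hle.eq_or_lt with e | hlt
  · exact Or.inl ⟨e, e ▸ h⟩
  · exact Or.inr ⟨hlt, h.step hlt hn⟩

theorem chain_exists [Finite G] : ∃ l, SnChain (⊤ : Subgroup G) l := by
  rcases (SnChain.base (G := G)).step_or (L := ⊤) bot_le (fun x _ k hk => by
    rw [Subgroup.mem_bot] at hk ⊢; simp [hk]) with ⟨_, h⟩ | ⟨_, h⟩ <;> exact ⟨_, h⟩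

theorem cl_spec [Finite G] : SnChain (⊤ : Subgroup G) (cl G) :=
  Nat.sSup_mem chain_exists chain_bdd

theorem cl_le [Finite G] {b : ℕ} (h : ∀ l, SnChain (⊤ : Subgroup G) l → l ≤ b) : cl G ≤ b :=
  h _ cl_spec

theorem cl_le_omega [Finite G] : cl G ≤ cardFactors (Nat.card G) := by
  refine (cl_spec (G := G)).le_omega.trans (le_of_eq ?_)
  rw [Subgroup.card_top]

theorem cl_subsingleton [Finite G] [Subsingleton G] : cl G = 0 := by
  have h := cl_le_omega (G := G)
  rw [Nat.card_unique, cardFactors_one] at h
  omega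

theorem one_le_cl [Finite G] [Nontrivial G] : 1 ≤ cl G :=
  le_cl ((SnChain.base (G := G)).step bot_lt_top fun x _ k hk => by
    rw [Subgroup.mem_bot] at hk ⊢; simp [hk])

theorem cl_le_one [Finite G] [IsSimpleGroup G] : cl G ≤ 1 := by
  apply cl_le
  intro l h
  generalize hT : (⊤ : Subgroup G) = T at h
  cases h with
  | base => omega
  | @step K L l hK hlt hn =>
    subst hT
    have : K.Normal := ⟨fun k hk x => hn x (Subgroup.mem_top x) k hk⟩
    rcases this.eq_bot_or_eq_top with rfl | rfl
    · have := hK.le_omega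
      rw [Subgroup.card_bot, cardFactors_one] at this
      omega
    · exact absurd hlt (lt_irrefl _)

/-- Splitting a chain along a homomorphism. -/
theorem SnChain.split (f : G →* H) {K : Subgroup G} {l : ℕ} (h : SnChain K l) :
    ∃ a b, l ≤ a + b ∧ SnChain (K.subgroupOf f.ker) a ∧ SnChain (K.map f) b := by
  induction h with
  | base => exact ⟨0, 0, le_rfl, by rw [Subgroup.bot_subgroupOf]; exact .base,
      by rw [Subgroup.map_bot]; exact .base⟩
  | @step K L l _ hlt hn ih =>
    obtain ⟨a, b, hl, ha, hb⟩ := ih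
    have hx := ha.step_or (L := L.subgroupOf f.ker) (fun x hx => hlt.le hx)
      (fun x hx k hk => hn _ hx _ hk)
    have hy := hb.step_or (L := L.map f) (Subgroup.map_mono hlt.le) (by
      rintro _ ⟨x, hx, rfl⟩ _ ⟨k, hk, rfl⟩
      exact ⟨x * k * x⁻¹, hn x hx k hk, by simp⟩)
    rcases hx with ⟨ea, ha'⟩ | ⟨-, ha'⟩ <;> rcases hy with ⟨eb, hb'⟩ | ⟨-, hb'⟩
    · exfalso
      apply hlt.not_ge
      intro x hx
      obtain ⟨k, hk, hkx⟩ : f x ∈ K.map f := eb ▸ ⟨x, hx, rfl⟩
      have hker : k⁻¹ * x ∈ f.ker := by simp [MonoidHom.mem_ker, hkx]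
      have hmem : (⟨k⁻¹ * x, hker⟩ : f.ker) ∈ L.subgroupOf f.ker :=
        L.mul_mem (L.inv_mem (hlt.le hk)) hx
      rw [← ea] at hmem
      simpa using K.mul_mem hk hmem
    · exact ⟨a, b + 1, by omega, ha', hb'⟩
    · exact ⟨a + 1, b, by omega, ha', hb'⟩
    · exact ⟨a + 1, b + 1, by omega, ha', hb'⟩

theorem SnChain.map_subtype {N : Subgroup G} {K : Subgroup N} {l : ℕ} (h : SnChain K l) :
    SnChain (K.map N.subtype) l := by
  induction h with
  | base => rw [Subgroup.map_bot]; exact .base
  | @step K L l _ hlt hn ih =>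
    refine ih.step ?_ ?_
    · exact (Subgroup.map_mono hlt.le).lt_of_ne
        fun e => hlt.ne (Subgroup.map_injective N.subtype_injective e)
    · rintro _ ⟨x, hx, rfl⟩ _ ⟨k, hk, rfl⟩
      exact ⟨x * k * x⁻¹, hn x hx k hk, rfl⟩

theorem SnChain.comap_of_surjective (f : G →* H) (hf : Function.Surjective f) {a : ℕ}
    (ha : SnChain f.ker a) {L : Subgroup H} {b : ℕ} (h : SnChain L b) :
    SnChain (L.comap f) (a + b) := by
  induction h with
  | base => simpa [MonoidHom.comap_bot] using ha
  | @step K L l _ hlt hn ih =>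
    refine ih.step ((Subgroup.comap_lt_comap_of_surjective hf).2 hlt) ?_
    intro x hx k hk
    simpa using hn (f x) hx (f k) hk

theorem cl_eq [Finite G] [Finite H] (f : G →* H) (hf : Function.Surjective f) :
    cl G = cl f.ker + cl H := by
  apply le_antisymm
  · apply cl_le
    intro l h
    obtain ⟨a, b, hl, ha, hb⟩ := h.split f
    rw [Subgroup.top_subgroupOf] at ha
    rw [Subgroup.map_top_of_surjective f hf] at hb
    have := le_cl ha
    have := le_cl hb
    omega
  · have h1 : SnChain f.ker (cl f.ker) := by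
      have h := (cl_spec (G := f.ker)).map_subtype
      rwa [← MonoidHom.range_eq_map, Subgroup.range_subtype] at h
    have h2 := h1.comap_of_surjective f hf (cl_spec (G := H))
    rw [Subgroup.comap_top] at h2
    exact le_cl h2

theorem cl_congr [Finite G] [Finite H] (e : G ≃* H) : cl G = cl H := by
  rw [cl_eq e.toMonoidHom e.surjective]
  have : Subsingleton e.toMonoidHom.ker := by
    rw [(MonoidHom.ker_eq_bot_iff _).2 e.injective]
    infer_instance
  rw [cl_subsingleton, zero_add]

theorem cl_of_injective [Finite G] (f : G →* H) [Finite f.range] (hf : Function.Injective f) :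
    cl G = cl f.range :=
  cl_congr (MonoidHom.ofInjective hf)

theorem cl_eq_range [Finite G] (f : G →* H) [Finite f.range] : cl G = cl f.ker + cl f.range := by
  rw [cl_eq f.rangeRestrict f.rangeRestrict_surjective]
  rw [cl_congr (MulEquiv.subgroupCongr f.ker_rangeRestrict)]

theorem cl_quotient [Finite G] (N : Subgroup G) [N.Normal] : cl G = cl N + cl (G ⧸ N) := by
  rw [cl_eq (QuotientGroup.mk' N) (QuotientGroup.mk'_surjective N)]
  rw [cl_congr (MulEquiv.subgroupCongr (QuotientGroup.ker_mk' N))]

/-- A group embedded in a product of permutation groups. -/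
theorem cl_le_sum {ι : Type*} {β : ι → Type*} [∀ i, Finite (β i)] (b : ι → ℕ)
    (hb : ∀ i, ∀ R : Subgroup (Equiv.Perm (β i)), 3 * cl R ≤ b i) (s : Finset ι) :
    ∀ (A : Type _) [Group A] [Finite A] (f : ∀ i, A →* Equiv.Perm (β i)),
      (∀ x : A, (∀ i ∈ s, f i x = 1) → x = 1) → 3 * cl A ≤ ∑ i ∈ s, b i := by
  classical
  induction s using Finset.induction_on with
  | empty =>
    intro A _ _ f hf
    have : Subsingleton A := ⟨fun x y => by
      rw [hf x (by simp), hf y (by simp)]⟩
    simp [cl_subsingleton]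
  | insert i s his ih =>
    intro A _ _ f hf
    have h1 := ih (f i).ker (fun j => (f j).comp (f i).ker.subtype) (fun x hx =>
      Subtype.ext (hf x fun j hj => (Finset.mem_insert.1 hj).elim (fun e => e ▸ x.2) (hx j)))
    have h2 := hb i (f i).range
    rw [cl_eq_range (f i), Finset.sum_insert his]
    omega

/-- A group of automorphisms is small. -/
theorem omega_aut {A N : Type*} [Group A] [Group N] [Finite N] [MulDistribMulAction A N]
    [FaithfulSMul A N] [Finite A] :
    cardFactors (Nat.card A) ≤ cardFactors (Nat.card N) * Nat.log 2 (Nat.card N - 1) := by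
  set n := Nat.card N
  set L := Nat.log 2 (n - 1)
  suffices h : ∀ d : ℕ, ∀ M : Subgroup N, cardFactors n ≤ cardFactors (Nat.card M) + d →
      ∀ B : Subgroup A, (∀ x ∈ B, ∀ m ∈ M, x • m = m) → cardFactors (Nat.card B) ≤ d * L by
    have := h (cardFactors n) ⊥ (by omega) ⊤ (fun x _ m hm => by
      rw [Subgroup.mem_bot.1 hm, smul_one])
    rwa [Subgroup.card_top] at this
  intro d
  induction d with
  | zero =>
    intro M hM B hB
    have hMtop : M = ⊤ := by
      by_contra hne
      have hmul := M.card_mul_index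
      have h1 : M.index ≠ 1 := fun e => hne (Subgroup.index_eq_one.1 e)
      have h0 : M.index ≠ 0 := Subgroup.index_ne_zero_of_finite
      have h2 : 1 ≤ cardFactors M.index := cardFactors_pos_iff_one_lt.2 (by omega)
      have h3 : cardFactors n = cardFactors (Nat.card M) + cardFactors M.index := by
        rw [← cardFactors_mul Nat.card_pos.ne' h0, hmul]
      omega
    have : B = ⊥ := (Subgroup.eq_bot_iff_forall B).2 fun x hx =>
      eq_of_smul_eq_smul (α := N) fun m => by
        rw [one_smul]; exact hB x hx m (hMtop ▸ Subgroup.mem_top m)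
    simp [this]
  | succ d ih =>
    intro M hM B hB
    by_cases hMtop : M = ⊤
    · have : B = ⊥ := (Subgroup.eq_bot_iff_forall B).2 fun x hx =>
        eq_of_smul_eq_smul (α := N) fun m => by
          rw [one_smul]; exact hB x hx m (hMtop ▸ Subgroup.mem_top m)
      simp [this]
    obtain ⟨y, -, hy⟩ := SetLike.exists_of_lt (lt_top_iff_ne_top.2 hMtop)
    have hy1 : y ≠ 1 := fun e => hy (e ▸ M.one_mem)
    let B' : Subgroup A := B ⊓ MulAction.stabilizer A y
    let M' : Subgroup N := M ⊔ Subgroup.zpowers y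
    have hlt : M < M' := lt_of_le_of_ne le_sup_left fun e =>
      hy (e ▸ (le_sup_right : Subgroup.zpowers y ≤ M') (Subgroup.mem_zpowers y))
    have hM' : cardFactors (Nat.card M) < cardFactors (Nat.card M') := by
      have hmul := Subgroup.relIndex_mul_relIndex ⊥ M M' bot_le hlt.le
      rw [Subgroup.relIndex_bot_left, Subgroup.relIndex_bot_left] at hmul
      have h2 : M.relIndex M' ≠ 1 := fun e => hlt.not_ge (Subgroup.relIndex_eq_one.1 e)
      have h0 : M.relIndex M' ≠ 0 := fun e => by
        rw [e, mul_zero] at hmul; exact Nat.card_pos.ne hmul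
      have h1 : 1 ≤ cardFactors (M.relIndex M') := cardFactors_pos_iff_one_lt.2 (by omega)
      rw [← hmul, cardFactors_mul Nat.card_pos.ne' h0]
      omega
    have hfix : ∀ x ∈ B', ∀ m ∈ M', x • m = m := by
      intro x hx m hm
      let F : Subgroup N :=
        { carrier := {m | x • m = m}
          one_mem' := smul_one x
          mul_mem' := fun {a b} ha hb => by simp only [Set.mem_ofPred_eq] at *; rw [smul_mul', ha, hb]
          inv_mem' := fun {a} ha => by simp only [Set.mem_ofPred_eq] at *; rw [smul_inv', ha] }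
      have hle : M' ≤ F := sup_le (fun m hm => hB x hx.1 m hm)
        (Subgroup.zpowers_le.2 (MulAction.mem_stabilizer_iff.1 hx.2))
      exact hle hm
    have h1 := ih M' (by omega) B' hfix
    have horb : Nat.card (MulAction.orbit B y) * Nat.card (MulAction.stabilizer B y) = Nat.card B := by
      rw [← Nat.card_prod]
      exact Nat.card_congr (MulAction.orbitProdStabilizerEquivGroup B y)
    have hst : Nat.card (MulAction.stabilizer B y) = Nat.card B' :=
      Nat.card_congr
        { toFun := fun x => ⟨(x.1 : A), x.1.2, x.2⟩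
          invFun := fun x => ⟨⟨x.1, x.2.1⟩, x.2.2⟩
          left_inv := fun x => rfl
          right_inv := fun x => rfl }
    have hsize : Nat.card (MulAction.orbit B y) ≤ n - 1 := by
      have hss : MulAction.orbit B y ⊆ {z | z ≠ (1 : N)} := by
        rintro _ ⟨x, rfl⟩ e
        exact hy1 (by simpa using congrArg (fun z => (x : A)⁻¹ • z) (show (x : A) • y = 1 from e))
      refine (Nat.card_mono (Set.toFinite _) hss).trans ?_
      have : Nat.card {z : N | z ≠ 1} = n - 1 := by
        have h := Set.ncard_add_ncard_compl ({1} : Set N)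
        rw [Set.ncard_singleton] at h
        have e : ({1} : Set N)ᶜ = {z : N | z ≠ 1} := rfl
        rw [e] at h
        rw [Nat.card_coe_set_eq]
        omega
      omega
    have hne : Nonempty (MulAction.orbit B y) := ⟨⟨y, MulAction.mem_orbit_self y⟩⟩
    have h2 : cardFactors (Nat.card (MulAction.orbit B y)) ≤ L := by
      refine le_trans ?_ (Nat.log_mono_right hsize)
      apply Nat.le_log_of_pow_le (by norm_num)
      set j := Nat.card (MulAction.orbit B y)
      have hj : j ≠ 0 := Nat.card_pos.ne'
      rw [cardFactors_apply]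
      calc 2 ^ j.primeFactorsList.length ≤ j.primeFactorsList.prod :=
            List.pow_card_le_prod _ _ fun p hp => (Nat.prime_of_mem_primeFactorsList hp).two_le
        _ = j := Nat.prod_primeFactorsList hj
    rw [← horb, hst, cardFactors_mul Nat.card_pos.ne' Nat.card_pos.ne', Nat.succ_mul]
    omega

theorem two_pow_omega_le {n : ℕ} (hn : n ≠ 0) : 2 ^ cardFactors n ≤ n := by
  rw [cardFactors_apply]
  calc 2 ^ n.primeFactorsList.length ≤ n.primeFactorsList.prod :=
        List.pow_card_le_prod _ _ fun p hp => (Nat.prime_of_mem_primeFactorsList hp).two_le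
    _ = n := Nat.prod_primeFactorsList hn

theorem arith {n : ℕ} (h2 : 2 ≤ cardFactors n) :
    3 * (cardFactors n * (1 + Nat.log 2 (n - 1))) ≤ 4 * (n - 1) := by
  have hn : n ≠ 0 := fun e => by simp [e] at h2
  have hd : 2 ^ cardFactors n ≤ n := two_pow_omega_le hn
  have hL : Nat.log 2 (n - 1) ≤ Nat.log 2 n := Nat.log_mono_right (by omega)
  have hdL : cardFactors n ≤ Nat.log 2 n := Nat.le_log_of_pow_le (by norm_num) hd
  by_cases hbig : 32 ≤ n
  · have h5 : 5 ≤ Nat.log 2 n := Nat.le_log_of_pow_le (by norm_num) (by norm_num; omega)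
    have key : ∀ L, 5 ≤ L → 3 * (L * (1 + L)) + 4 ≤ 4 * 2 ^ L := by
      intro L hL
      induction L, hL using Nat.le_induction with
      | base => norm_num
      | succ L hL ih =>
        rw [pow_succ]
        nlinarith
    have := key _ h5
    have := Nat.pow_log_le_self 2 hn
    calc 3 * (cardFactors n * (1 + Nat.log 2 (n - 1)))
        ≤ 3 * (Nat.log 2 n * (1 + Nat.log 2 n)) := by gcongr
      _ ≤ 4 * (n - 1) := by omega
  · have h4 : 4 ≤ n := le_trans (by
      calc 4 = 2 ^ 2 := rfl
        _ ≤ 2 ^ cardFactors n := Nat.pow_le_pow_right (by norm_num) h2) hd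
    push Not at hbig
    by_cases h5 : n = 5
    · subst h5; rw [cardFactors_apply_prime (by norm_num)] at h2; omega
    by_cases h9 : n = 9
    · subst h9
      rw [show (9 : ℕ) = 3 ^ 2 by norm_num, cardFactors_apply_prime_pow (by norm_num)]
      norm_num [Nat.log_eq_iff]
    have lg : ∀ j k : ℕ, 2 ^ k ≤ j → j < 2 ^ (k + 1) → Nat.log 2 j = k := fun j k h h' =>
      Nat.log_eq_of_pow_le_of_lt_pow h h'
    have hle : cardFactors n * (1 + Nat.log 2 (n - 1)) ≤
        Nat.log 2 n * (1 + Nat.log 2 (n - 1)) := Nat.mul_le_mul_right _ hdL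
    rcases (show n < 8 ∨ (8 ≤ n ∧ n < 16) ∨ 16 ≤ n by omega) with h | h | h
    · rw [lg n 2 (by norm_num; omega) (by norm_num; omega)] at hle
      by_cases h4' : n = 4
      · rw [lg (n - 1) 1 (by norm_num; omega) (by norm_num; omega)] at hle ⊢; omega
      · rw [lg (n - 1) 2 (by norm_num; omega) (by norm_num; omega)] at hle ⊢; omega
    · rw [lg n 3 (by norm_num; omega) (by norm_num; omega)] at hle
      by_cases h8 : n = 8
      · rw [lg (n - 1) 2 (by norm_num; omega) (by norm_num; omega)] at hle ⊢; omega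
      · rw [lg (n - 1) 3 (by norm_num; omega) (by norm_num; omega)] at hle ⊢; omega
    · rw [lg n 4 (by norm_num; omega) (by norm_num; omega)] at hle
      by_cases h16 : n = 16
      · rw [lg (n - 1) 3 (by norm_num; omega) (by norm_num; omega)] at hle ⊢; omega
      · rw [lg (n - 1) 4 (by norm_num; omega) (by norm_num; omega)] at hle ⊢; omega

end Cfsg.Agent.CompLen
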