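import Cfsg.Agent.Lib.CompLen.Basic

/-!
# Composition length of permutation groups: `3 * cl G + 4 * r ≤ 4 * n`

Induction on the degree; no classification is needed.
-/

set_option autoImplicit false

namespace Cfsg.Agent.CompLen

open ArithmeticFunction MulAction

/-- The number of orbits. -/
noncomputable def orbs (G α : Type*) [Group G] [MulAction G α] : ℕ :=
  Nat.card (Quotient (orbitRel G α))

/-- The bound below degree `n`. -/
def IH (n : ℕ) : Prop :=
  ∀ (G α : Type) [Group G] [Finite G] [Finite α] [MulAction G α] [FaithfulSMul G α],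
    Nat.card α < n → 3 * cl G + 4 * orbs G α ≤ 4 * Nat.card α

theorem IH.perm {n : ℕ} (ih : IH n) {β : Type} [Finite β] [Nonempty β] (h : Nat.card β < n)
    (R : Subgroup (Equiv.Perm β)) : 3 * cl R + 4 ≤ 4 * Nat.card β := by
  have := ih R β h
  have : 0 < orbs R β := @Nat.card_pos _ (Nonempty.map (Quotient.mk _) ‹_›) _
  omega

variable {G α : Type} [Group G] [MulAction G α]

theorem mk_eq_iff {M : Subgroup G} {x y : α} :
    Quotient.mk (orbitRel M α) x = Quotient.mk (orbitRel M α) y ↔ ∃ m ∈ M, m • y = x := by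
  rw [Quotient.eq, orbitRel_apply, mem_orbit_iff]
  exact ⟨fun ⟨m, h⟩ => ⟨m, m.2, h⟩, fun ⟨m, hm, h⟩ => ⟨⟨m, hm⟩, h⟩⟩

/-- A group normalising `M` permutes the orbits of `M`. -/
def orbMap {A : Type} [Group A] (φ : A →* G) (M : Subgroup G)
    (h : ∀ x : A, ∀ m ∈ M, φ x * m * (φ x)⁻¹ ∈ M) (x : A) :
    Quotient (orbitRel M α) → Quotient (orbitRel M α) :=
  Quotient.map (fun b => φ x • b) fun b c hbc => by
    obtain ⟨m, hm, e⟩ := mk_eq_iff.1 (Quotient.sound hbc)
    exact Quotient.exact (mk_eq_iff.2 ⟨_, h x m hm, by simp [mul_smul, ← e]⟩)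

theorem orbMap_mk {A : Type} [Group A] (φ : A →* G) (M : Subgroup G)
    (h : ∀ x : A, ∀ m ∈ M, φ x * m * (φ x)⁻¹ ∈ M) (x : A) (b : α) :
    orbMap φ M h x (Quotient.mk _ b) = Quotient.mk (orbitRel M α) (φ x • b) := rfl

/-- The homomorphism to the permutations of the `M`-orbits. -/
def orbPerm {A : Type} [Group A] (φ : A →* G) (M : Subgroup G)
    (h : ∀ x : A, ∀ m ∈ M, φ x * m * (φ x)⁻¹ ∈ M) :
    A →* Equiv.Perm (Quotient (orbitRel M α)) where
  toFun x :=
    { toFun := orbMap φ M h x
      invFun := orbMap φ M h x⁻¹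
      left_inv := fun q => Quotient.inductionOn q fun b => by
        rw [orbMap_mk, orbMap_mk]; simp
      right_inv := fun q => Quotient.inductionOn q fun b => by
        rw [orbMap_mk, orbMap_mk]; simp }
  map_one' := Equiv.ext fun q => Quotient.inductionOn q fun b => by
    show orbMap (α := α) φ M h 1 (Quotient.mk _ b) = Quotient.mk _ b
    rw [orbMap_mk]; simp
  map_mul' x y := Equiv.ext fun q => Quotient.inductionOn q fun b => by
    show orbMap (α := α) φ M h (x * y) (Quotient.mk _ b) =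
      orbMap φ M h x (orbMap φ M h y (Quotient.mk _ b))
    rw [orbMap_mk, orbMap_mk, orbMap_mk, map_mul, mul_smul]

theorem orbPerm_eq_one {A : Type} [Group A] (φ : A →* G) (M : Subgroup G)
    (h : ∀ x : A, ∀ m ∈ M, φ x * m * (φ x)⁻¹ ∈ M) (x : A) :
    orbPerm (α := α) φ M h x = 1 ↔
      ∀ b : α, Quotient.mk (orbitRel M α) (φ x • b) = Quotient.mk _ b := by
  refine ⟨fun e b => ?_, fun e => Equiv.ext fun q => Quotient.inductionOn q fun b => e b⟩
  exact congrArg (fun p : Equiv.Perm _ => p (Quotient.mk _ b)) e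

variable [Finite G] [Finite α] [FaithfulSMul G α]

/-- The intransitive case. -/
theorem intrans {n : ℕ} (ih : IH n) (hn : Nat.card α ≤ n) (h2 : 2 ≤ orbs G α) :
    3 * cl G + 4 * orbs G α ≤ 4 * Nat.card α := by
  classical
  obtain ⟨q, q', hqq⟩ := (Finite.one_lt_card_iff_nontrivial.1 h2).exists_pair_ne
  induction q using Quotient.inductionOn with | h a => ?_
  induction q' using Quotient.inductionOn with | h b => ?_
  let O : SubMulAction G α :=
    { carrier := orbit G a
      smul_mem' := fun g x hx => by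
        rw [← orbit_eq_iff.2 hx]; exact mem_orbit x g }
  have hmem : ∀ x : α, x ∈ O ↔ Quotient.mk (orbitRel G α) x = Quotient.mk _ a := by
    intro x
    rw [Quotient.eq, orbitRel_apply]
    rfl
  have haO : a ∈ O := (hmem a).2 rfl
  have hbO : b ∉ O := fun h => hqq ((hmem b).1 h).symm
  have hcard : Nat.card O + Nat.card {x : α // x ∉ O} = Nat.card α := by
    rw [← Nat.card_sum]
    exact Nat.card_congr (Equiv.sumCompl (fun x => x ∈ O))
  have hOpos : 0 < Nat.card O := @Nat.card_pos _ ⟨⟨a, haO⟩⟩ _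
  have hOcpos : 0 < Nat.card {x : α // x ∉ O} := @Nat.card_pos _ ⟨⟨b, hbO⟩⟩ _
  let f : G →* Equiv.Perm O := MulAction.toPermHom G O
  have : Nonempty O := ⟨⟨a, haO⟩⟩
  have h1 := ih.perm (β := O) (by omega) f.range
  let K := f.ker
  let O' : SubMulAction K α :=
    { carrier := {x | x ∉ O}
      smul_mem' := fun g x hx h => hx (by
        have := O.smul_mem (g : G)⁻¹ h
        simpa [Subgroup.smul_def] using this) }
  have : FaithfulSMul K O' := ⟨fun {k₁ k₂} h => Subtype.ext (eq_of_smul_eq_smul (α := α) fun x => by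
    by_cases hx : x ∈ O
    · have e1 := congrArg (fun p : Equiv.Perm O => p ⟨x, hx⟩) (MonoidHom.mem_ker.1 k₁.2)
      have e2 := congrArg (fun p : Equiv.Perm O => p ⟨x, hx⟩) (MonoidHom.mem_ker.1 k₂.2)
      exact (congrArg Subtype.val e1).trans (congrArg Subtype.val e2).symm
    · exact congrArg Subtype.val (h ⟨x, hx⟩))⟩
  have hO'card : Nat.card O' = Nat.card {x : α // x ∉ O} := rfl
  have h3 := ih K O' (by omega)
  have h4 : orbs G α ≤ orbs K O' + 1 := by
    let qa : Quotient (orbitRel G α) := Quotient.mk _ a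
    let F : Option (Quotient (orbitRel K O')) → Quotient (orbitRel G α) := fun o =>
      o.elim qa (Quotient.lift (fun x => Quotient.mk _ (x : α)) fun x y h => by
        obtain ⟨k, hk⟩ := mem_orbit_iff.1 (orbitRel_apply.1 h)
        apply Quotient.sound
        rw [← hk]
        exact orbitRel_apply.2 (mem_orbit (y : α) (k : G)))
    have hF : Function.Surjective F := by
      intro q
      induction q using Quotient.inductionOn with | h x => ?_
      by_cases hx : x ∈ O
      · exact ⟨none, ((hmem x).1 hx).symm⟩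
      · exact ⟨some (Quotient.mk _ ⟨x, hx⟩), rfl⟩
    have := Nat.card_le_card_of_surjective F hF
    rwa [Finite.card_option] at this
  rw [cl_eq_range f]
  change 3 * (cl K + cl f.range) + _ ≤ _
  omega

/-- A normal subgroup with the stabiliser saving at most one. -/
theorem saving {n : ℕ} (ih : IH n) (hn : Nat.card α = n) (h2 : 2 ≤ n) (N : Subgroup G) [N.Normal]
    (htr : ∀ x y : α, ∃ m ∈ N, m • x = y) (a : α)
    (hcl : cl N ≤ 1 ∨ (cl N ≤ 2 ∧ ∃ y ∈ N, y ≠ 1 ∧ y • a = a)) :
    3 * cl G + 4 ≤ 4 * n := by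
  let A := stabilizer G a
  have horb : 2 ≤ orbs A α := by
    obtain ⟨b, hb⟩ := exists_ne_of_one_lt (show 1 < Nat.card α by omega) a
    refine Finite.one_lt_card_iff_nontrivial.2 ⟨⟨Quotient.mk _ a, Quotient.mk _ b, fun e => ?_⟩⟩
    obtain ⟨g, hg, e'⟩ := mk_eq_iff.1 e.symm
    exact hb (e'.symm.trans (mem_stabilizer_iff.1 hg))
  have h1 := intrans (G := A) (α := α) ih hn.le horb
  let f : A →* G ⧸ N := (QuotientGroup.mk' N).comp A.subtype
  have hf : Function.Surjective f := by
    intro q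
    obtain ⟨g, rfl⟩ := QuotientGroup.mk'_surjective N q
    obtain ⟨m, hm, e⟩ := htr (g • a) a
    refine ⟨⟨m * g, mem_stabilizer_iff.2 (by rw [mul_smul, e])⟩, ?_⟩
    show (QuotientGroup.mk' N) (m * g) = QuotientGroup.mk' N g
    rw [map_mul]
    simp [(QuotientGroup.eq_one_iff m).2 hm]
  have h3 := cl_eq f hf
  have h4 := cl_quotient N
  rcases hcl with hcl | ⟨hcl, y, hy, hy1, hya⟩
  · omega
  · have : Nontrivial f.ker := ⟨⟨⟨⟨y, mem_stabilizer_iff.2 hya⟩, by
        simp [f, hy]⟩, 1, fun e => hy1 (congrArg (fun z : f.ker => ((z : A) : G)) e)⟩⟩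
    have := one_le_cl (G := f.ker)
    omega
where
  exists_ne_of_one_lt {β : Type} [Finite β] (h : 1 < Nat.card β) (a : β) : ∃ b, b ≠ a :=
    have := Finite.one_lt_card_iff_nontrivial.1 h
    exists_ne a

/-- A regular normal subgroup. -/
theorem regular {n : ℕ} (hn : Nat.card α = n) (h2 : 2 ≤ cardFactors n) (N : Subgroup G) [N.Normal]
    (htr : ∀ x y : α, ∃ m ∈ N, m • x = y) (a : α) (hreg : ∀ y ∈ N, y • a = a → y = 1) :
    3 * cl G + 4 ≤ 4 * n := by
  let A := stabilizer G a
  let φ : A →* MulAut N := (MulAut.conjNormal (H := N)).comp A.subtype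
  let _ : MulDistribMulAction A N := MulDistribMulAction.compHom N φ
  have hsmul : ∀ (x : A) (m : N), ((x • m : N) : G) = (x : G) * m * (x : G)⁻¹ := fun x m => by
    show ((MulAut.conjNormal (x : G) m : N) : G) = _
    simp
  have : FaithfulSMul A N := ⟨fun {x y} h => Subtype.ext (eq_of_smul_eq_smul (α := α) fun b => by
    obtain ⟨m, hm, rfl⟩ := htr a b
    have e := congrArg Subtype.val (h ⟨m, hm⟩)
    rw [hsmul, hsmul] at e
    have hx : ((x : G) * m) • a = ((x : G) * m * (x : G)⁻¹) • a := by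
      rw [mul_smul ((x : G) * m), show (x : G)⁻¹ • a = a from
        inv_smul_eq_iff.2 (mem_stabilizer_iff.1 x.2).symm]
    have hy : ((y : G) * m) • a = ((y : G) * m * (y : G)⁻¹) • a := by
      rw [mul_smul ((y : G) * m), show (y : G)⁻¹ • a = a from
        inv_smul_eq_iff.2 (mem_stabilizer_iff.1 y.2).symm]
    rw [← mul_smul, ← mul_smul, hx, hy, e])⟩
  have hN : Nat.card N = n := by
    rw [← hn]
    refine Nat.card_congr (Equiv.ofBijective (fun m : N => (m : G) • a) ⟨fun m m' e => ?_, fun b => ?_⟩)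
    · have e' : (m : G) • a = (m' : G) • a := e
      have := hreg ((m' : G)⁻¹ * m) (N.mul_mem (N.inv_mem m'.2) m.2)
        (by rw [mul_smul, e', inv_smul_smul])
      exact Subtype.ext (inv_mul_eq_one.1 this).symm
    · obtain ⟨m, hm, e⟩ := htr a b
      exact ⟨⟨m, hm⟩, e⟩
  have hidx : A.index = n := by
    have : IsPretransitive G α := ⟨fun x y => by
      obtain ⟨m, -, e⟩ := htr x y; exact ⟨m, e⟩⟩
    rw [← hn]; exact index_stabilizer_of_transitive G a
  have h1 := cl_le_omega (G := G)
  have hAN := omega_aut (A := A) (N := N)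
  rw [hN] at hAN
  have hn0 : n ≠ 0 := fun e => by simp [e] at h2
  rw [← A.card_mul_index, hidx, cardFactors_mul Nat.card_pos.ne' hn0] at h1
  have h3 := arith h2
  rw [mul_add, mul_one] at h3
  have : 2 ≤ n := by
    by_contra h
    interval_cases n <;> simp at h2
  omega

end Cfsg.Agent.CompLen
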