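import Cfsg.Agent.Lib.CompLen.Main

/-!
# The socle cases and the induction
-/

set_option autoImplicit false

namespace Cfsg.Agent.CompLen

open ArithmeticFunction MulAction

variable {G α : Type} [Group G] [MulAction G α] [Finite G] [Finite α] [FaithfulSMul G α]

namespace Socle

variable (S : Socle G α)

theorem fac_card_eq (U V : S.Fac) : Nat.card U.1 = Nat.card V.1 := by
  obtain ⟨g, hg⟩ := U.2
  obtain ⟨h, hh⟩ := V.2
  have e : ∀ k : G, Nat.card (conjS k S.T) = Nat.card S.T := fun k =>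
    (Nat.card_congr (Subgroup.equivMapOfInjective S.T _ (MulAut.conj k).injective).toEquiv).symm
  rw [← hg, ← hh, e, e]

/-- At most two factors. -/
theorem cl_socle_le_two (h : Nat.card S.Fac ≤ 2) : cl S.N ≤ 2 := by
  let U : S.Fac := ⟨S.T, 1, conjS_one _⟩
  have hU := S.fac_stable U
  let U' : Subgroup S.N := U.1.subgroupOf S.N
  have hUn : U'.Normal := ⟨fun u hu x => hU.2.2 x x.2 u hu⟩
  have := S.fac_simple U
  have h1 : cl U' ≤ 1 := by
    rw [cl_congr (Subgroup.subgroupOfEquivOfLe hU.2.1)]; exact cl_le_one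
  let C := S.others U
  let f : C →* S.N ⧸ U' := (QuotientGroup.mk' U').comp (Subgroup.inclusion (S.others_le U))
  have hf : Function.Surjective f := by
    intro q
    obtain ⟨x, rfl⟩ := QuotientGroup.mk'_surjective U' q
    obtain ⟨u, hu, c, hc, e⟩ := S.decomp U x.2
    refine ⟨⟨c, hc⟩, ?_⟩
    show QuotientGroup.mk' U' ⟨c, S.others_le U hc⟩ = QuotientGroup.mk' U' x
    have hx : x = ⟨u, hU.2.1 hu⟩ * ⟨c, S.others_le U hc⟩ := Subtype.ext e
    rw [hx, map_mul]
    simp [(QuotientGroup.eq_one_iff _).2 (show (⟨u, hU.2.1 hu⟩ : S.N) ∈ U' from hu)]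
  have h2 : cl C ≤ 1 := by
    by_cases he : ∃ V : S.Fac, V ≠ U
    · obtain ⟨V, hV⟩ := he
      have hall : ∀ W : S.Fac, W ≠ U → W = V := by
        intro W hW
        by_contra hne
        classical
        have := Fintype.ofFinite S.Fac
        have h3 : ({U, V, W} : Finset S.Fac).card = 3 :=
          Finset.card_eq_three.2 ⟨U, V, W, hV.symm, hW.symm, fun e => hne e.symm, rfl⟩
        have h4 := Finset.card_le_univ ({U, V, W} : Finset S.Fac)
        rw [Nat.card_eq_fintype_card] at h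
        omega
      have hCV : C = V.1 := le_antisymm
        (iSup₂_le fun W hW => le_of_eq (congrArg Subtype.val (hall W hW))) (S.le_others hV)
      have := S.fac_simple V
      rw [hCV]; exact cl_le_one
    · push Not at he
      have hC : C = ⊥ := le_bot_iff.1 (iSup₂_le fun W hW => absurd (he W) hW)
      rw [hC, cl_subsingleton]; omega
  have h3 := cl_eq f hf
  have h4 := cl_quotient U'
  omega

theorem finset_sum_le_prod {ι : Type} (s : Finset ι) (f : ι → ℕ) (hf : ∀ i ∈ s, 2 ≤ f i) :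
    ∑ i ∈ s, f i ≤ ∏ i ∈ s, f i := by
  classical
  induction s using Finset.induction_on with
  | empty => simp
  | insert i s his ih =>
    rw [Finset.sum_insert his, Finset.prod_insert his]
    have h2 := hf i (Finset.mem_insert_self i s)
    have ihs := ih fun j hj => hf j (Finset.mem_insert_of_mem hj)
    rcases s.eq_empty_or_nonempty with rfl | ⟨j, hj⟩
    · simp
    · have hj2 := hf j (Finset.mem_insert_of_mem hj)
      have : f j ≤ ∏ k ∈ s, f k := Finset.single_le_prod' (fun k hk =>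
        le_trans (by norm_num) (hf k (Finset.mem_insert_of_mem hk))) hj
      nlinarith

/-- Every product of all but one factor is intransitive. -/
theorem intrans_case {n : ℕ} (ih : IH n) (hn : Nat.card α = n) (hk : 2 ≤ Nat.card S.Fac)
    (hint : ∀ U : S.Fac, ∃ x y : α, ∀ c ∈ S.others U, c • x ≠ y) : 3 * cl G + 4 ≤ 4 * n := by
  classical
  have := Fintype.ofFinite S.Fac
  rw [Nat.card_eq_fintype_card] at hk
  let β : S.Fac → Type := fun U => Quotient (orbitRel (S.others U) α)
  have hβ2 : ∀ U, 2 ≤ Nat.card (β U) := by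
    intro U
    obtain ⟨x, y, hxy⟩ := hint U
    refine Finite.one_lt_card_iff_nontrivial.2 ⟨⟨Quotient.mk _ y, Quotient.mk _ x, fun e => ?_⟩⟩
    obtain ⟨c, hc, e'⟩ := mk_eq_iff.1 e
    exact hxy c hc e'
  -- the point set maps onto the product of the orbit sets
  have hprod : ∏ U, Nat.card (β U) ≤ n := by
    rw [← Nat.card_pi, ← hn]
    refine Nat.card_le_card_of_surjective (fun (b : α) (U : S.Fac) => (Quotient.mk _ b : β U))
      fun z => ?_
    suffices h : ∀ s : Finset S.Fac, ∃ b : α, ∀ U ∈ s, (Quotient.mk _ b : β U) = z U by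
      obtain ⟨b, hb⟩ := h Finset.univ
      exact ⟨b, funext fun U => hb U (Finset.mem_univ U)⟩
    intro s
    induction s using Finset.induction_on with
    | empty => exact ⟨S.a, by simp⟩
    | insert U s hUs ih' =>
      obtain ⟨b, hb⟩ := ih'
      obtain ⟨t, ht⟩ := Quotient.exists_rep (z U)
      obtain ⟨x, hx, hxb⟩ := S.trans b t
      obtain ⟨u, hu, c, hc, rfl⟩ := S.decomp U hx
      refine ⟨u • b, fun V hV => ?_⟩
      rcases Finset.mem_insert.1 hV with rfl | hVs
      · rw [← ht]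
        refine (mk_eq_iff.2 ⟨c, hc, ?_⟩).symm
        rw [smul_smul, ← S.others_comm V hu hc, hxb]
      · have hVU : U ≠ V := fun e => hUs (e ▸ hVs)
        rw [← hb V hVs]
        exact mk_eq_iff.2 ⟨u, S.le_others hVU hu, rfl⟩
  have hsum : ∑ U, Nat.card (β U) ≤ n :=
    (finset_sum_le_prod _ _ fun U _ => hβ2 U).trans hprod
  have hk2 : 2 * Fintype.card S.Fac ≤ n := by
    refine le_trans ?_ hsum
    rw [mul_comm, ← smul_eq_mul, ← Finset.card_univ, ← Finset.sum_const]
    exact Finset.sum_le_sum fun U _ => hβ2 U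
  have hlt : ∀ U, Nat.card (β U) < n := by
    intro U
    obtain ⟨V, hV⟩ := Fintype.exists_ne_of_one_lt_card (by omega) U
    have h1 : Nat.card (β U) + Nat.card (β V) ≤ ∑ W, Nat.card (β W) := by
      rw [← Finset.sum_pair (f := fun W => Nat.card (β W)) hV.symm]
      exact Finset.sum_le_sum_of_subset (Finset.subset_univ _)
    have := hβ2 V
    omega
  have : Nonempty S.Fac := ⟨⟨S.T, 1, conjS_one _⟩⟩
  have htop := ih.perm (β := S.Fac) (by rw [Nat.card_eq_fintype_card]; omega) S.facPerm.range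
  rw [Nat.card_eq_fintype_card] at htop
  let K := S.facPerm.ker
  let σ : ∀ U : S.Fac, K →* Equiv.Perm (β U) := fun U =>
    orbPerm K.subtype (S.others U) fun x => S.others_normalize U (S.mem_kerFac.1 x.2)
  have hK : 3 * cl K ≤ ∑ U, 4 * (Nat.card (β U) - 1) := by
    refine cl_le_sum (β := β) (fun U => 4 * (Nat.card (β U) - 1)) (fun U R => ?_) Finset.univ K σ ?_
    · have : Nonempty (β U) := ⟨Quotient.mk _ S.a⟩
      have := ih.perm (hlt U) R
      omega
    intro x hx
    refine Subtype.ext (S.centralize_fac fun U u hu => ?_)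
    have hxU := S.mem_kerFac.1 x.2 U
    have hd : (x : G) * u * (x : G)⁻¹ * u⁻¹ ∈ U.1 := by
      refine U.1.mul_mem ?_ (U.1.inv_mem hu)
      rw [← hxU, mem_conjS]; simpa [mul_assoc] using hu
    have huK : u ∈ K := S.le_kerFac ((S.fac_stable U).2.1 hu)
    let u' : K := ⟨u, huK⟩
    have hd1 : σ U (x * u' * x⁻¹ * u'⁻¹) = 1 := by
      simp [hx U (Finset.mem_univ U)]
    by_contra hne
    let M : Subgroup G := U.1 ⊓ (σ U).ker.map K.subtype
    have hMs : NStable S.N M := by
      refine ⟨fun e => hne ?_, inf_le_left.trans (S.fac_stable U).2.1, fun z hz w hw => ?_⟩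
      · have hmem : (x : G) * u * (x : G)⁻¹ * u⁻¹ ∈ M :=
          ⟨hd, x * u' * x⁻¹ * u'⁻¹, MonoidHom.mem_ker.2 hd1, rfl⟩
        rw [e, Subgroup.mem_bot, mul_inv_eq_one, mul_inv_eq_iff_eq_mul] at hmem
        exact hmem
      · obtain ⟨hwU, w', hw', rfl⟩ := hw
        exact ⟨(S.fac_stable U).2.2 z hz _ hwU, ⟨z, S.le_kerFac hz⟩ * w' * ⟨z, S.le_kerFac hz⟩⁻¹,
          (σ U).normal_ker.conj_mem w' hw' _, rfl⟩
    have hM := S.fac_min U hMs inf_le_left
    obtain ⟨p, q, hpq⟩ := hint U
    obtain ⟨m, hm, rfl⟩ := S.trans p q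
    obtain ⟨v, hv, c, hc, rfl⟩ := S.decomp U hm
    have hvM : v ∈ M := by rw [hM]; exact hv
    obtain ⟨-, v', hv', hvv⟩ := hvM
    have e := (orbPerm_eq_one _ _ _ v').1 (MonoidHom.mem_ker.1 hv') (c • p)
    obtain ⟨d, hd', e'⟩ := mk_eq_iff.1 e
    rw [smul_smul] at e'
    exact hpq (d * c) ((S.others U).mul_mem hd' hc) (by rw [e', ← hvv, mul_smul])
  rw [cl_eq_range S.facPerm]
  change 3 * (cl K + _) + 4 ≤ _
  have hs1 : ∑ U, 4 * (Nat.card (β U) - 1) + 4 * Fintype.card S.Fac = 4 * ∑ U, Nat.card (β U) := by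
    rw [← Finset.card_univ, ← smul_eq_mul 4, Finset.mul_sum]
    rw [show (4 : ℕ) • (Finset.univ : Finset S.Fac).card = ∑ _U : S.Fac, 4 by simp [mul_comm]]
    rw [← Finset.sum_add_distrib]
    refine Finset.sum_congr rfl fun U _ => ?_
    have := hβ2 U
    omega
  omega

/-- The rank bound from an odd prime divisor. -/
theorem le_of_pow_dvd_factorial {p s m : ℕ} (hp : p.Prime) (h3 : 3 ≤ p) (hs : 1 ≤ s)
    (h : p ^ s ∣ m.factorial) : 3 ≤ m ∧ 2 * s ≤ m := by
  refine ⟨le_trans h3 (hp.dvd_factorial.1 ((dvd_pow_self p (by omega)).trans h)), ?_⟩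
  have : Fact p.Prime := ⟨hp⟩
  have h1 := (padicValNat_dvd_iff_le m.factorial_ne_zero).1 h
  have h2 := sub_one_mul_padicValNat_factorial (p := p) m
  calc 2 * s ≤ (p - 1) * padicValNat p m.factorial := Nat.mul_le_mul (by omega) h1
    _ ≤ m := by rw [h2]; exact Nat.sub_le _ _

/-- Some product of all but one factor is transitive and there are at least three. -/
theorem trans_case {n : ℕ} (ih : IH n) (hn : Nat.card α = n) (hk : 3 ≤ Nat.card S.Fac)
    (U₀ : S.Fac) (htr : ∀ x y : α, ∃ c ∈ S.others U₀, c • x = y) : 3 * cl G + 4 ≤ 4 * n := by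
  classical
  have := Fintype.ofFinite S.Fac
  rw [Nat.card_eq_fintype_card] at hk
  -- semiregularity
  have hsr : ∀ V : S.Fac, ∀ v ∈ V.1, ∀ b : α, v • b = b → v = 1 := by
    have h0 : ∀ u ∈ U₀.1, ∀ b : α, u • b = b → u = 1 := by
      intro u hu b hb
      refine eq_of_smul_eq_smul (α := α) fun z => ?_
      obtain ⟨c, hc, rfl⟩ := htr b z
      rw [one_smul, smul_smul, S.others_comm U₀ hu hc, mul_smul, hb]
    intro V v hv b hb
    obtain ⟨g, hg⟩ := V.2
    obtain ⟨h, hh⟩ := U₀.2
    have hw : h * g⁻¹ * v * (h * g⁻¹)⁻¹ ∈ U₀.1 := by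
      rw [← hg, mem_conjS] at hv
      rw [← hh, mem_conjS]
      simpa [mul_assoc] using hv
    have e := h0 _ hw ((h * g⁻¹) • b) (by rw [mul_smul, inv_smul_smul, mul_smul, hb])
    exact conj_eq_one_iff.1 e
  let γ := Quotient (orbitRel U₀.1 α)
  set m := Nat.card γ with hm_def
  have hmT : m * Nat.card U₀.1 ≤ n := by
    rw [← hn, hm_def, ← Nat.card_prod]
    refine Nat.card_le_card_of_injective (fun p : γ × U₀.1 => (p.2 : G) • Quotient.out p.1) ?_
    rintro ⟨q, u⟩ ⟨r, w⟩ (e : (u : G) • Quotient.out q = (w : G) • Quotient.out r)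
    have hqr : q = r := by
      rw [← Quotient.out_eq q, ← Quotient.out_eq r]
      refine mk_eq_iff.2 ⟨(u : G)⁻¹ * w, U₀.1.mul_mem (U₀.1.inv_mem u.2) w.2, ?_⟩
      rw [mul_smul, ← e, inv_smul_smul]
    subst hqr
    have := hsr U₀ ((w : G)⁻¹ * u) (U₀.1.mul_mem (U₀.1.inv_mem w.2) u.2) _
      (by rw [mul_smul, e, inv_smul_smul])
    rw [Prod.mk.injEq]
    exact ⟨rfl, Subtype.ext (inv_mul_eq_one.1 this).symm⟩
  let K := S.facPerm.ker
  let ρ : K →* Equiv.Perm γ := orbPerm K.subtype U₀.1 fun x u hu => by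
    have := S.mem_kerFac.1 x.2 U₀
    rw [← this, mem_conjS]
    simpa [mul_assoc] using hu
  let InKer : S.Fac → Prop := fun V => ∀ v ∈ V.1, ∀ b : α,
    (Quotient.mk _ (v • b) : γ) = Quotient.mk _ b
  -- at most one further factor fixes every orbit
  have hone : ∀ V W : S.Fac, V ≠ U₀ → W ≠ U₀ → InKer V → InKer W → V = W := by
    intro V W hV hW iV iW
    by_contra hVW
    obtain ⟨x, hx, x', hx', hne⟩ := S.fac_nonabelian V
    apply hne
    have hclass : ∀ w : W.1, ∃ t : U₀.1, (t : G) • S.a = (w : G) • S.a := fun w => by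
      obtain ⟨t, ht, e⟩ := mk_eq_iff.1 (iW w w.2 S.a); exact ⟨⟨t, ht⟩, e⟩
    choose φ hφ using hclass
    have hinj : Function.Injective φ := fun w w' e => by
      have h' : (w : G) • S.a = (w' : G) • S.a := by rw [← hφ w, ← hφ w', e]
      have := hsr W ((w' : G)⁻¹ * w) (W.1.mul_mem (W.1.inv_mem w'.2) w.2) S.a
        (by rw [mul_smul, h', inv_smul_smul])
      exact Subtype.ext (inv_mul_eq_one.1 this).symm
    have hbij := (Nat.bijective_iff_injective_and_card φ).2 ⟨hinj, S.fac_card_eq W U₀⟩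
    obtain ⟨t, ht, et⟩ := mk_eq_iff.1 (iV x hx S.a)
    obtain ⟨t', ht', et'⟩ := mk_eq_iff.1 (iV x' hx' S.a)
    obtain ⟨w, hw⟩ := hbij.2 ⟨t, ht⟩
    have hwa : (w : G) • S.a = x • S.a := by rw [← hφ w, hw]; exact et
    have e1 : (x' * x) • S.a = (x * x') • S.a := by
      rw [mul_smul, ← hwa, smul_smul, S.fac_comm hVW hx' w.2, mul_smul, ← et', smul_smul,
        S.fac_comm hW w.2 ht', mul_smul, hwa, smul_smul, ← S.fac_comm hV hx ht', mul_smul, et',
        ← mul_smul]
    have := hsr V ((x * x')⁻¹ * (x' * x))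
      (V.1.mul_mem (V.1.inv_mem (V.1.mul_mem hx hx')) (V.1.mul_mem hx' hx)) S.a
      (by rw [mul_smul, e1, inv_smul_smul])
    exact (inv_mul_eq_one.1 this)
  let s : Finset S.Fac := Finset.univ.filter fun V => V ≠ U₀ ∧ ¬ InKer V
  have hs : Fintype.card S.Fac ≤ s.card + 2 := by
    have h1 : (Finset.univ.filter fun V => V ≠ U₀ ∧ InKer V).card ≤ 1 :=
      Finset.card_le_one.2 fun V hV W hW => by
        simp only [Finset.mem_filter, Finset.mem_univ, true_and] at hV hW
        exact hone V W hV.1 hW.1 hV.2 hW.2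
    have h2 : (Finset.univ : Finset S.Fac) ⊆
        s ∪ (Finset.univ.filter fun V => V ≠ U₀ ∧ InKer V) ∪ {U₀} := by
      intro V _
      by_cases h : V = U₀ <;> by_cases h' : InKer V <;> simp [s, h, h']
    have h3 := (Finset.card_le_card h2).trans
      ((Finset.card_union_le _ _).trans (Nat.add_le_add_right (Finset.card_union_le _ _) _))
    rw [Finset.card_univ, Finset.card_singleton] at h3
    omega
  let R : S.Fac → Subgroup (Equiv.Perm γ) := fun V => (V.1.subgroupOf K).map ρ
  have hVK : ∀ V : S.Fac, V.1 ≤ K := fun V => (S.fac_stable V).2.1.trans S.le_kerFac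
  have hinjR : ∀ V ∈ s, ∀ v : K, (v : G) ∈ V.1 → ρ v = 1 → v = 1 := by
    intro V hV v hv he
    simp only [s, Finset.mem_filter, Finset.mem_univ, true_and] at hV
    by_contra hv1
    have hMs : NStable S.N (V.1 ⊓ ρ.ker.map K.subtype) := by
      refine ⟨fun e => hv1 ?_, inf_le_left.trans (S.fac_stable V).2.1, fun z hz w hw => ?_⟩
      · have hmem : (v : G) ∈ V.1 ⊓ ρ.ker.map K.subtype := ⟨hv, v, MonoidHom.mem_ker.2 he, rfl⟩
        rw [e, Subgroup.mem_bot] at hmem
        exact Subtype.ext hmem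
      · obtain ⟨hwU, w', hw', rfl⟩ := hw
        exact ⟨(S.fac_stable V).2.2 z hz _ hwU, ⟨z, S.le_kerFac hz⟩ * w' * ⟨z, S.le_kerFac hz⟩⁻¹,
          ρ.normal_ker.conj_mem w' hw' _, rfl⟩
    have hM := S.fac_min V hMs inf_le_left
    apply hV.2
    intro z hz b
    have hzM : z ∈ V.1 ⊓ ρ.ker.map K.subtype := by rw [hM]; exact hz
    obtain ⟨-, z', hz', rfl⟩ := hzM
    exact (orbPerm_eq_one _ _ _ z').1 (MonoidHom.mem_ker.1 hz') b
  have hcardR : ∀ V ∈ s, Nat.card (R V) = Nat.card U₀.1 := by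
    intro V hV
    rw [← S.fac_card_eq V U₀, ← Nat.card_congr (Subgroup.subgroupOfEquivOfLe (hVK V)).toEquiv]
    refine (Nat.card_congr ((ρ.comp (V.1.subgroupOf K).subtype).ofInjective ?_).toEquiv).trans ?_ |>.symm
    · rw [injective_iff_map_eq_one]
      intro v hv
      exact Subtype.ext (hinjR V hV v v.2 hv)
    · rw [MonoidHom.range_comp, Subgroup.range_subtype]
  have hdvd : ∀ t : Finset S.Fac, t ⊆ s → Nat.card U₀.1 ^ t.card ∣ Nat.card (t.sup R : Subgroup _) := by
    intro t
    induction t using Finset.induction_on with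
    | empty => simp
    | insert V t hVt ih' =>
      intro hts
      have hVs := hts (Finset.mem_insert_self V t)
      have hd := ih' fun W hW => hts (Finset.mem_insert_of_mem hW)
      have hle : t.sup R ≤ Subgroup.centralizer (R V : Set (Equiv.Perm γ)) := by
        refine Finset.sup_le fun W hW => ?_
        rintro _ ⟨w, hw, rfl⟩
        refine Subgroup.mem_centralizer_iff.2 ?_
        rintro _ ⟨v, hv, rfl⟩
        have : v * w = w * v := Subtype.ext (S.fac_comm (fun e => hVt (by rwa [e])) hv hw)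
        rw [← map_mul, ← map_mul, this]
      have hc : ∀ (x : R V) (y : (t.sup R : Subgroup _)),
          Commute ((R V).subtype x) ((t.sup R).subtype y) := fun x y =>
        Subgroup.mem_centralizer_iff.1 (hle y.2) x x.2
      let μ := (R V).subtype.noncommCoprod (t.sup R).subtype hc
      have hμ : Function.Injective μ := by
        rw [injective_iff_map_eq_one]
        rintro ⟨x, y⟩ e
        rw [MonoidHom.noncommCoprod_apply] at e
        have hx1 : (x : Equiv.Perm γ) = 1 := by
          obtain ⟨v, hv, hve⟩ := x.2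
          have hxy : (y : Equiv.Perm γ) = (x : Equiv.Perm γ)⁻¹ := eq_inv_of_mul_eq_one_right e
          suffices v = 1 by rw [← hve, this, map_one]
          refine Subtype.ext (S.fac_center V hv fun u hu => ?_)
          let u' : K := ⟨u, hVK V hu⟩
          have h1 := Subgroup.mem_centralizer_iff.1 (hle y.2) (ρ u') ⟨u', hu, rfl⟩
          rw [hxy, ← hve] at h1
          have h2 : ρ (v * u') = ρ (u' * v) := by
            rw [map_mul, map_mul]
            calc ρ v * ρ u' = ρ v * (ρ u' * (ρ v)⁻¹) * ρ v := by group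
              _ = ρ v * ((ρ v)⁻¹ * ρ u') * ρ v := by rw [h1]
              _ = ρ u' * ρ v := by group
          have h3 := hinjR V hVs ((u' * v)⁻¹ * (v * u'))
            (V.1.mul_mem (V.1.inv_mem (V.1.mul_mem hu hv)) (V.1.mul_mem hv hu))
            (by rw [map_mul, map_inv, h2, inv_mul_cancel])
          exact (congrArg Subtype.val (inv_mul_eq_one.1 h3)).symm
        have hy1 : (y : Equiv.Perm γ) = 1 := by
          have := e
          rw [Subgroup.coe_subtype, Subgroup.coe_subtype, hx1, one_mul] at this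
          exact this
        exact Prod.ext (Subtype.ext hx1) (Subtype.ext hy1)
      have hrange : μ.range ≤ (insert V t).sup R := by
        rw [MonoidHom.noncommCoprod_range, Subgroup.range_subtype, Subgroup.range_subtype,
          Finset.sup_insert]
      refine dvd_trans ?_ (Subgroup.card_dvd_of_le hrange)
      rw [← Nat.card_congr (MonoidHom.ofInjective hμ).toEquiv, Nat.card_prod,
        Finset.card_insert_of_notMem hVt, pow_succ', hcardR V hVs]
      exact mul_dvd_mul_left _ hd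
  -- an odd prime divisor of the factor
  obtain ⟨p, hp, hp3, hpd⟩ : ∃ p, p.Prime ∧ 3 ≤ p ∧ p ∣ Nat.card U₀.1 := by
    by_contra hcon
    push Not at hcon
    have : Fact (Nat.Prime 2) := ⟨Nat.prime_two⟩
    have h2 : ∀ q, q.Prime → q ∣ Nat.card U₀.1 → q = 2 := fun q hq hqd => by
      by_contra h
      exact hcon q hq (by have := hq.two_le; omega) hqd
    have hP : IsPGroup 2 U₀.1 := IsPGroup.iff_card.2
      ⟨_, Nat.eq_prime_pow_of_unique_prime_dvd Nat.card_pos.ne' fun hq hqd => h2 _ hq hqd⟩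
    have : Nontrivial U₀.1 := (Subgroup.nontrivial_iff_ne_bot _).2 (S.fac_stable U₀).1
    have := hP.center_nontrivial
    obtain ⟨z, hz⟩ := exists_ne (1 : Subgroup.center U₀.1)
    apply hz
    refine Subtype.ext (Subtype.ext (S.fac_center U₀ z.1.2 fun u hu => ?_))
    exact (congrArg Subtype.val (Subgroup.mem_center_iff.1 z.2 ⟨u, hu⟩)).symm
  have hm : Fintype.card S.Fac ≤ m := by
    have hpow : p ^ s.card ∣ m.factorial := by
      refine dvd_trans ((pow_dvd_pow_of_dvd hpd _).trans (hdvd s subset_rfl)) ?_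
      refine dvd_trans (Subgroup.card_subgroup_dvd_card _) ?_
      rw [Nat.card_perm]
    have := le_of_pow_dvd_factorial hp hp3 (by omega) hpow
    omega
  -- the group acts faithfully on the non-identity elements of the factors
  let X : Type := {x : G // x ≠ 1 ∧ ∃ U : S.Fac, x ∈ U.1}
  have hXcl : ∀ (g : G) (x : X), g * x.1 * g⁻¹ ≠ 1 ∧ ∃ U : S.Fac, g * x.1 * g⁻¹ ∈ U.1 := by
    rintro g ⟨x, hx1, U, hxU⟩
    refine ⟨fun e => hx1 (conj_eq_one_iff.1 e), S.facPerm g U, ?_⟩
    show g * x * g⁻¹ ∈ conjS g U.1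
    rw [mem_conjS]; simpa [mul_assoc] using hxU
  let _ : MulAction G X :=
    { smul := fun g x => ⟨g * x.1 * g⁻¹, hXcl g x⟩
      one_smul := fun x => Subtype.ext (show 1 * x.1 * 1⁻¹ = x.1 by simp)
      mul_smul := fun g h x => Subtype.ext
        (show g * h * x.1 * (g * h)⁻¹ = g * (h * x.1 * h⁻¹) * g⁻¹ by group) }
  have : FaithfulSMul G X := ⟨fun {g h} e => by
    have : h⁻¹ * g = 1 := S.centralize_fac fun U u hu => by
      by_cases hu1 : u = 1
      · simp [hu1]
      have e' : g * u * g⁻¹ = h * u * h⁻¹ := congrArg Subtype.val (e ⟨u, hu1, U, hu⟩)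
      calc h⁻¹ * g * u = h⁻¹ * (g * u * g⁻¹) * g := by group
        _ = h⁻¹ * (h * u * h⁻¹) * g := by rw [e']
        _ = u * (h⁻¹ * g) := by group
    exact (inv_mul_eq_one.1 this).symm⟩
  have hXcard : Nat.card X ≤ Fintype.card S.Fac * (Nat.card U₀.1 - 1) := by
    let Y : S.Fac → Type := fun U => {x : U.1 // x ≠ 1}
    have hY : ∀ U, Nat.card (Y U) = Nat.card U₀.1 - 1 := by
      intro U
      have := Fintype.ofFinite U.1
      rw [← S.fac_card_eq U U₀, Nat.card_eq_fintype_card, Nat.card_eq_fintype_card]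
      simp [Y]
    calc Nat.card X ≤ Nat.card (Σ U, Y U) := Nat.card_le_card_of_surjective
          (fun p => ⟨(p.2.1 : G), fun e => p.2.2 (Subtype.ext e), p.1, p.2.1.2⟩)
          (fun ⟨x, hx1, U, hxU⟩ => ⟨⟨U, ⟨x, hxU⟩, fun e => hx1 (congrArg Subtype.val e)⟩, rfl⟩)
      _ = _ := by rw [Nat.card_sigma, Finset.sum_congr rfl fun U _ => hY U, Finset.sum_const,
            Finset.card_univ, smul_eq_mul]
  have hT2 : 1 < Nat.card U₀.1 :=
    (Subgroup.one_lt_card_iff_ne_bot _).2 (S.fac_stable U₀).1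
  have hlt : Nat.card X < n := by
    refine lt_of_le_of_lt hXcard (lt_of_lt_of_le ?_ hmT)
    exact Nat.lt_of_lt_of_le (Nat.mul_lt_mul_of_pos_left (by omega) (by omega))
      (Nat.mul_le_mul_right _ hm)
  have h1 := ih G X hlt
  have : Nonempty X := by
    obtain ⟨u, hu, hu1⟩ := U₀.1.bot_or_exists_ne_one.resolve_left (S.fac_stable U₀).1
    exact ⟨⟨u, hu1, U₀, hu⟩⟩
  have : 0 < orbs G X := @Nat.card_pos _ (Nonempty.map (Quotient.mk _) ‹_›) _
  omega

end Socle

end Cfsg.Agent.CompLen
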