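import Cfsg.Agent.Lib.CompLen.Cases

/-!
# Induction on the degree
-/

set_option autoImplicit false

namespace Cfsg.Agent.CompLen

open ArithmeticFunction MulAction

theorem bound_step {n : ℕ} (ih : IH n) (G α : Type) [Group G] [Finite G] [Finite α] [MulAction G α]
    [FaithfulSMul G α] (hn : Nat.card α = n) : 3 * cl G + 4 * orbs G α ≤ 4 * n := by
  classical
  rcases Nat.eq_zero_or_pos n with h0 | hpos
  · have : IsEmpty α := (Nat.card_eq_zero.1 (hn.trans h0)).resolve_right (not_infinite_iff_finite.2 ‹_›)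
    have : Subsingleton G := ⟨fun g h => eq_of_smul_eq_smul (α := α) fun a => isEmptyElim a⟩
    have h1 : orbs G α = 0 := Nat.card_of_isEmpty
    rw [cl_subsingleton, h1]
    omega
  by_cases h2 : 2 ≤ orbs G α
  · exact hn ▸ intrans ih hn.le h2
  have : Nonempty α := (Nat.card_pos_iff.1 (hn ▸ hpos)).1
  have hr : orbs G α = 1 := by
    have : 0 < orbs G α := @Nat.card_pos _ (Nonempty.map (Quotient.mk _) ‹_›) _
    omega
  rw [hr, mul_one]
  rcases subsingleton_or_nontrivial G with hG | hG
  · rw [cl_subsingleton]; omega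
  have hn2 : 2 ≤ n := by
    by_contra h
    have : Subsingleton α := (Nat.card_eq_one_iff_unique.1 (by omega : Nat.card α = 1)).1
    obtain ⟨g, g', hne⟩ := hG
    exact hne (eq_of_smul_eq_smul (α := α) fun a => Subsingleton.elim _ _)
  by_cases hq : ∀ M : Subgroup G, M.Normal → M ≠ ⊥ → ∀ x y : α, ∃ m ∈ M, m • x = y
  swap
  · -- an intransitive normal subgroup
    push Not at hq
    obtain ⟨M, hMn, hMb, x, y, hxy⟩ := hq
    let β := Quotient (orbitRel M α)
    have hβ2 : 2 ≤ Nat.card β := by
      refine Finite.one_lt_card_iff_nontrivial.2 ⟨⟨Quotient.mk _ y, Quotient.mk _ x, fun e => ?_⟩⟩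
      obtain ⟨m, hm, e'⟩ := mk_eq_iff.1 e
      exact hxy m hm e'
    have hβn : Nat.card β < n := by
      rw [← hn]
      refine (Nat.card_le_card_of_surjective (Quotient.mk (orbitRel M α))
        Quotient.mk_surjective).lt_of_ne fun e => hMb ?_
      have hb := (Nat.bijective_iff_surjective_and_card
        (Quotient.mk (orbitRel M α))).2 ⟨Quotient.mk_surjective, e.symm⟩
      exact (Subgroup.eq_bot_iff_forall M).2 fun m hm => eq_of_smul_eq_smul (α := α) fun b => by
        rw [one_smul]; exact hb.1 (mk_eq_iff.2 ⟨m, hm, rfl⟩)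
    have : Nonempty β := ⟨Quotient.mk _ x⟩
    let f : G →* Equiv.Perm β := orbPerm (MonoidHom.id G) M fun g m hm => hMn.conj_mem m hm g
    have h1 := ih.perm hβn f.range
    let K := f.ker
    have hK : Nat.card β ≤ orbs K α := by
      let F : Quotient (orbitRel K α) → β := Quotient.lift (fun b => Quotient.mk _ b) fun b c h => by
        obtain ⟨k, hk⟩ := mem_orbit_iff.1 (orbitRel_apply.1 h)
        rw [← hk]
        exact (orbPerm_eq_one (MonoidHom.id G) M _ (k : G)).1 (MonoidHom.mem_ker.1 k.2) c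
      exact Nat.card_le_card_of_surjective F fun q =>
        Quotient.inductionOn q fun b => ⟨Quotient.mk _ b, rfl⟩
    have h3 := intrans (G := K) (α := α) ih hn.le (le_trans hβ2 hK)
    rw [cl_eq_range f]
    change 3 * (cl K + _) + 4 ≤ _
    omega
  -- quasiprimitive
  obtain ⟨N, -, hNmin⟩ := Finite.exists_le_minimal
    (p := fun M : Subgroup G => M.Normal ∧ M ≠ ⊥) (a := ⊤) ⟨inferInstance, by simp⟩
  obtain ⟨⟨hNn, hNb⟩, hNle⟩ := hNmin
  have htr := hq N hNn hNb
  let a : α := Classical.arbitrary α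
  by_cases hreg : ∀ y ∈ N, y • a = a → y = 1
  · by_cases hΩ : 2 ≤ cardFactors n
    · exact regular hn hΩ N htr a hreg
    · refine saving ih hn hn2 N htr a (Or.inl ?_)
      have hN : Nat.card N = n := by
        rw [← hn]
        refine Nat.card_congr (Equiv.ofBijective (fun m : N => (m : G) • a) ⟨fun m m' e => ?_, fun b => ?_⟩)
        · have e' : (m : G) • a = (m' : G) • a := e
          have := hreg ((m' : G)⁻¹ * m) (N.mul_mem (N.inv_mem m'.2) m.2)
            (by rw [mul_smul, e', inv_smul_smul])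
          exact Subtype.ext (inv_mul_eq_one.1 this).symm
        · obtain ⟨m, hm, e⟩ := htr a b
          exact ⟨⟨m, hm⟩, e⟩
      have := cl_le_omega (G := N)
      rw [hN] at this
      omega
  push Not at hreg
  obtain ⟨y, hy, hya, hy1⟩ := hreg
  obtain ⟨T, hTN, hT⟩ := Finite.exists_le_minimal (p := fun U => NStable N U) (a := N)
    ⟨hNb, le_rfl, fun x hx u hu => N.mul_mem (N.mul_mem hx hu) (N.inv_mem hx)⟩
  let S : Socle G α :=
    { N := N, normal := hNn, ne_bot := hNb, quasi := hq, a := a, y := y, y_mem := hy, y_ne := hy1,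
      y_fix := hya, T := T, stable := hT.1,
      minimal := fun M hM hle => (em (M = ⊥)).imp_right fun h => le_antisymm hle (hNle ⟨hM, h⟩ hle)
      t_min := fun M hM hle => le_antisymm hle (hT.2 hM hle) }
  by_cases hk : Nat.card S.Fac ≤ 2
  · exact saving ih hn hn2 N htr a (Or.inr ⟨S.cl_socle_le_two hk, y, hy, hy1, hya⟩)
  by_cases hint : ∀ U : S.Fac, ∃ x y : α, ∀ c ∈ S.others U, c • x ≠ y
  · exact S.intrans_case ih hn (by omega) hint
  · push Not at hint
    obtain ⟨U, hU⟩ := hint
    exact S.trans_case ih hn (by omega) U hU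

theorem bound (G α : Type) [Group G] [Finite G] [Finite α] [MulAction G α] [FaithfulSMul G α] :
    3 * cl G + 4 * orbs G α ≤ 4 * Nat.card α := by
  suffices h : ∀ n, IH n from h (Nat.card α + 1) G α (Nat.lt_succ_self _)
  intro n
  induction n with
  | zero => intro G α _ _ _ _ _ h; omega
  | succ n ih =>
    intro G α _ _ _ _ _ h
    rcases Nat.lt_succ_iff_lt_or_eq.1 h with h' | h'
    · exact ih G α h'
    · rw [h']; exact bound_step ih G α h'

end Cfsg.Agent.CompLen
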