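import Cfsg.Agent.Lib.CompLen.Bound

/-!
# The quasiprimitive case with non-regular socle, and the induction
-/

set_option autoImplicit false

namespace Cfsg.Agent.CompLen

open ArithmeticFunction MulAction

variable {G α : Type} [Group G] [MulAction G α]

/-- Nontrivial, inside `N`, normalised by `N`. -/
def NStable (N U : Subgroup G) : Prop :=
  U ≠ ⊥ ∧ U ≤ N ∧ ∀ x ∈ N, ∀ u ∈ U, x * u * x⁻¹ ∈ U

/-- The conjugate of a subgroup. -/
def conjS (g : G) (U : Subgroup G) : Subgroup G := U.map (MulAut.conj g).toMonoidHom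

theorem mem_conjS {g x : G} {U : Subgroup G} : x ∈ conjS g U ↔ g⁻¹ * x * g ∈ U := by
  rw [conjS, Subgroup.mem_map_equiv, MulAut.conj_symm_apply]

theorem conjS_one (U : Subgroup G) : conjS 1 U = U := by
  ext x; simp [mem_conjS]

theorem conjS_conjS (g h : G) (U : Subgroup G) : conjS g (conjS h U) = conjS (g * h) U := by
  ext x; simp [mem_conjS, mul_assoc]

theorem NStable.conj {N U : Subgroup G} [hN : N.Normal] (h : NStable N U) (g : G) :
    NStable N (conjS g U) := by
  refine ⟨fun e => h.1 ?_, fun x hx => ?_, fun x hx u hu => ?_⟩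
  · rw [← conjS_one U, ← inv_mul_cancel g, ← conjS_conjS, e]
    exact Subgroup.map_bot _
  · have := h.2.1 (mem_conjS.1 hx)
    simpa [mul_assoc] using hN.conj_mem _ this g
  · rw [mem_conjS] at hu ⊢
    have hx' : g⁻¹ * x * g ∈ N := by simpa using hN.conj_mem x hx g⁻¹
    simpa [mul_assoc] using h.2.2 _ hx' _ hu

/-- The socle: `N` is a minimal normal subgroup, transitive and not semiregular, `T` is minimal
among the subgroups normalised by `N`, and every nontrivial normal subgroup is transitive. -/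
structure Socle (G α : Type) [Group G] [MulAction G α] where
  N : Subgroup G
  normal : N.Normal
  ne_bot : N ≠ ⊥
  minimal : ∀ M : Subgroup G, M.Normal → M ≤ N → M = ⊥ ∨ M = N
  quasi : ∀ M : Subgroup G, M.Normal → M ≠ ⊥ → ∀ x y : α, ∃ m ∈ M, m • x = y
  a : α
  y : G
  y_mem : y ∈ N
  y_ne : y ≠ 1
  y_fix : y • a = a
  T : Subgroup G
  stable : NStable N T
  t_min : ∀ M, NStable N M → M ≤ T → M = T

namespace Socle

variable (S : Socle G α)

theorem trans (x y : α) : ∃ m ∈ S.N, m • x = y := S.quasi S.N S.normal S.ne_bot x y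

/-- The conjugates of `T`. -/
abbrev Fac : Type := {U : Subgroup G // ∃ g, conjS g S.T = U}

theorem fac_stable (U : S.Fac) : NStable S.N U.1 := by
  obtain ⟨g, hg⟩ := U.2
  have := S.normal
  exact hg ▸ S.stable.conj g

theorem fac_min (U : S.Fac) {M : Subgroup G} (hM : NStable S.N M) (hle : M ≤ U.1) : M = U.1 := by
  obtain ⟨g, hg⟩ := U.2
  have := S.normal
  have hM' := hM.conj g⁻¹
  have h := S.t_min _ hM' (fun x hx => by
    rw [mem_conjS] at hx
    have := hle hx
    rw [← hg, mem_conjS] at this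
    simpa [mul_assoc] using this)
  rw [← hg, ← h, conjS_conjS, mul_inv_cancel, conjS_one]

theorem fac_inf {U V : S.Fac} (h : U ≠ V) : U.1 ⊓ V.1 = ⊥ := by
  by_contra hne
  have hs : NStable S.N (U.1 ⊓ V.1) := ⟨hne, inf_le_left.trans (S.fac_stable U).2.1,
    fun x hx u hu => ⟨(S.fac_stable U).2.2 x hx u hu.1, (S.fac_stable V).2.2 x hx u hu.2⟩⟩
  exact h (Subtype.ext ((S.fac_min U hs inf_le_left).symm.trans (S.fac_min V hs inf_le_right)))

theorem fac_comm {U V : S.Fac} (h : U ≠ V) {u v : G} (hu : u ∈ U.1) (hv : v ∈ V.1) :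
    u * v = v * u := by
  have hUN := (S.fac_stable U).2.1
  have hVN := (S.fac_stable V).2.1
  have hmem : u * v * u⁻¹ * v⁻¹ ∈ U.1 ⊓ V.1 :=
    ⟨by simpa [mul_assoc] using
        U.1.mul_mem hu ((S.fac_stable U).2.2 v (hVN hv) u⁻¹ (U.1.inv_mem hu)),
      V.1.mul_mem ((S.fac_stable V).2.2 u (hUN hu) v hv) (V.1.inv_mem hv)⟩
  rw [S.fac_inf h, Subgroup.mem_bot, mul_inv_eq_one] at hmem
  exact mul_inv_eq_iff_eq_mul.1 hmem

theorem iSup_fac : (⨆ U : S.Fac, U.1) = S.N := by
  have hle : (⨆ U : S.Fac, U.1) ≤ S.N := iSup_le fun U => (S.fac_stable U).2.1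
  have hn : (⨆ U : S.Fac, U.1).Normal := ⟨fun n hn g => by
    have : (⨆ U : S.Fac, U.1) ≤ (⨆ U : S.Fac, U.1).comap (MulAut.conj g).toMonoidHom := by
      refine iSup_le fun U x hx => ?_
      obtain ⟨h, hh⟩ := U.2
      have hW : g * x * g⁻¹ ∈ conjS g U.1 := by rw [mem_conjS]; simpa [mul_assoc] using hx
      exact Subgroup.mem_iSup_of_mem
        (⟨conjS g U.1, g * h, by rw [← conjS_conjS, hh]⟩ : S.Fac) hW
    exact this hn⟩
  refine (S.minimal _ hn hle).resolve_left fun e => S.stable.1 ?_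
  have hT : S.T ≤ ⨆ U : S.Fac, U.1 :=
    le_iSup_of_le (⟨S.T, 1, conjS_one _⟩ : S.Fac) le_rfl
  rw [e] at hT
  exact le_bot_iff.1 hT

/-- The product of the other factors. -/
def others (U : S.Fac) : Subgroup G := ⨆ V : S.Fac, ⨆ (_ : V ≠ U), V.1

theorem le_others {U V : S.Fac} (h : V ≠ U) : V.1 ≤ S.others U := le_iSup₂_of_le V h le_rfl

theorem others_le (U : S.Fac) : S.others U ≤ S.N :=
  iSup₂_le fun V _ => (S.fac_stable V).2.1

theorem others_comm (U : S.Fac) {u c : G} (hu : u ∈ U.1) (hc : c ∈ S.others U) :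
    u * c = c * u := by
  have h : S.others U ≤ Subgroup.centralizer (U.1 : Set G) :=
    iSup₂_le fun V hV v hv => Subgroup.mem_centralizer_iff.2 fun w hw => S.fac_comm hV.symm hw hv
  exact Subgroup.mem_centralizer_iff.1 (h hc) u hu

theorem decomp (U : S.Fac) {x : G} (hx : x ∈ S.N) : ∃ u ∈ U.1, ∃ c ∈ S.others U, x = u * c := by
  let D : Subgroup G :=
    { carrier := {x | ∃ u ∈ U.1, ∃ c ∈ S.others U, x = u * c}
      one_mem' := ⟨1, one_mem _, 1, one_mem _, (mul_one 1).symm⟩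
      mul_mem' := by
        rintro _ _ ⟨u, hu, c, hc, rfl⟩ ⟨v, hv, d, hd, rfl⟩
        refine ⟨u * v, U.1.mul_mem hu hv, c * d, (S.others U).mul_mem hc hd, ?_⟩
        have := S.others_comm U hv hc
        simp only [mul_assoc]
        congr 1
        rw [← mul_assoc, ← mul_assoc, this]
      inv_mem' := by
        rintro _ ⟨u, hu, c, hc, rfl⟩
        refine ⟨u⁻¹, U.1.inv_mem hu, c⁻¹, (S.others U).inv_mem hc, ?_⟩
        rw [mul_inv_rev, S.others_comm U (U.1.inv_mem hu) ((S.others U).inv_mem hc)] }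
  have : (⨆ V : S.Fac, V.1) ≤ D := iSup_le fun V v hv => by
    by_cases h : V = U
    · exact ⟨v, h ▸ hv, 1, one_mem _, (mul_one v).symm⟩
    · exact ⟨1, one_mem _, v, S.le_others h hv, (one_mul v).symm⟩
  rw [S.iSup_fac] at this
  exact this hx

theorem others_normalize (U : S.Fac) {g : G} (hg : ∀ V : S.Fac, conjS g V.1 = V.1) :
    ∀ c ∈ S.others U, g * c * g⁻¹ ∈ S.others U := by
  have : S.others U ≤ (S.others U).comap (MulAut.conj g).toMonoidHom := by
    refine iSup₂_le fun V hV v hv => S.le_others hV ?_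
    rw [← hg V, mem_conjS]
    simpa [mul_assoc] using hv
  exact this

variable [FaithfulSMul G α]

/-- The centraliser of `N` is trivial. -/
theorem centralizer_trivial {x : G} (hx : ∀ m ∈ S.N, x * m = m * x) : x = 1 := by
  have hn := S.normal
  let Z := Subgroup.centralizer (S.N : Set G)
  have hxZ : x ∈ Z := Subgroup.mem_centralizer_iff.2 fun m hm => (hx m hm).symm
  have hZn : Z.Normal := ⟨fun z hz g => Subgroup.mem_centralizer_iff.2 fun m hm => by
    have hm' : g⁻¹ * m * g ∈ S.N := by simpa using hn.conj_mem m hm g⁻¹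
    have e := Subgroup.mem_centralizer_iff.1 hz _ hm'
    calc m * (g * z * g⁻¹) = g * ((g⁻¹ * m * g) * z) * g⁻¹ := by group
      _ = g * (z * (g⁻¹ * m * g)) * g⁻¹ := by rw [e]
      _ = g * z * g⁻¹ * m := by group⟩
  by_contra hx1
  apply S.y_ne
  refine eq_of_smul_eq_smul (α := α) fun b => ?_
  obtain ⟨z, hz, rfl⟩ := S.quasi Z hZn (fun e => hx1 (by
    rw [e] at hxZ; exact Subgroup.mem_bot.1 hxZ)) S.a b
  rw [one_smul, smul_smul, Subgroup.mem_centralizer_iff.1 hz S.y S.y_mem, mul_smul, S.y_fix]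

theorem fac_nonabelian (U : S.Fac) : ∃ u ∈ U.1, ∃ v ∈ U.1, u * v ≠ v * u := by
  by_contra h
  push Not at h
  obtain ⟨g₀, hg₀⟩ := U.2
  have hall : ∀ V : S.Fac, ∀ u ∈ V.1, ∀ v ∈ V.1, u * v = v * u := by
    intro V u hu v hv
    obtain ⟨g, hg⟩ := V.2
    have hU : ∀ w ∈ V.1, g₀ * g⁻¹ * w * g * g₀⁻¹ ∈ U.1 := fun w hw => by
      rw [← hg, mem_conjS] at hw
      rw [← hg₀, mem_conjS]
      simpa [mul_assoc] using hw
    have e := h _ (hU u hu) _ (hU v hv)
    calc u * v = g * g₀⁻¹ * ((g₀ * g⁻¹ * u * g * g₀⁻¹) * (g₀ * g⁻¹ * v * g * g₀⁻¹)) * g₀ * g⁻¹ := by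
          group
      _ = g * g₀⁻¹ * ((g₀ * g⁻¹ * v * g * g₀⁻¹) * (g₀ * g⁻¹ * u * g * g₀⁻¹)) * g₀ * g⁻¹ := by rw [e]
      _ = v * u := by group
  apply S.y_ne
  apply S.centralizer_trivial
  intro m hm
  have h1 : (⨆ V : S.Fac, V.1) ≤ Subgroup.centralizer (S.N : Set G) := iSup_le fun V v hv => by
    refine Subgroup.mem_centralizer_iff.2 fun w hw => ?_
    have h2 : (⨆ W : S.Fac, W.1) ≤ Subgroup.centralizer ({v} : Set G) := iSup_le fun W z hz => by
      refine Subgroup.mem_centralizer_singleton_iff.2 ?_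
      by_cases e : W = V
      · subst e; exact hall W z hz v hv
      · exact S.fac_comm e hz hv
    rw [S.iSup_fac] at h2
    exact Subgroup.mem_centralizer_singleton_iff.1 (h2 hw)
  rw [S.iSup_fac] at h1
  exact (Subgroup.mem_centralizer_iff.1 (h1 S.y_mem) m hm).symm

theorem fac_center (U : S.Fac) {z : G} (hz : z ∈ U.1) (h : ∀ u ∈ U.1, z * u = u * z) : z = 1 := by
  by_contra hz1
  let M := U.1 ⊓ Subgroup.centralizer (U.1 : Set G)
  have hzM : z ∈ M := ⟨hz, Subgroup.mem_centralizer_iff.2 fun u hu => (h u hu).symm⟩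
  have hs : NStable S.N M := by
    refine ⟨fun e => hz1 (by rw [e] at hzM; exact Subgroup.mem_bot.1 hzM),
      inf_le_left.trans (S.fac_stable U).2.1, fun x hx w hw =>
        ⟨(S.fac_stable U).2.2 x hx w hw.1, Subgroup.mem_centralizer_iff.2 fun u hu => ?_⟩⟩
    have hu' : x⁻¹ * u * x ∈ U.1 := by
      simpa using (S.fac_stable U).2.2 x⁻¹ (S.N.inv_mem hx) u hu
    have e := Subgroup.mem_centralizer_iff.1 hw.2 _ hu'
    calc u * (x * w * x⁻¹) = x * ((x⁻¹ * u * x) * w) * x⁻¹ := by group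
      _ = x * (w * (x⁻¹ * u * x)) * x⁻¹ := by rw [e]
      _ = x * w * x⁻¹ * u := by group
  have hM := S.fac_min U hs inf_le_left
  obtain ⟨u, hu, v, hv, hne⟩ := S.fac_nonabelian U
  have hvM : v ∈ M := by rw [hM]; exact hv
  exact hne (Subgroup.mem_centralizer_iff.1 hvM.2 u hu)

theorem fac_simple (U : S.Fac) : IsSimpleGroup U.1 := by
  have : Nontrivial U.1 := (Subgroup.nontrivial_iff_ne_bot _).2 (S.fac_stable U).1
  refine ⟨fun M hM => ?_⟩
  by_cases hb : M = ⊥
  · exact Or.inl hb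
  refine Or.inr ?_
  have hle : M.map U.1.subtype ≤ U.1 := Subgroup.map_subtype_le M
  have hs : NStable S.N (M.map U.1.subtype) := by
    refine ⟨fun e => hb ((Subgroup.map_eq_bot_iff_of_injective _ U.1.subtype_injective).1 e),
      hle.trans (S.fac_stable U).2.1, ?_⟩
    rintro x hx _ ⟨m, hm, rfl⟩
    obtain ⟨u, hu, c, hc, rfl⟩ := S.decomp U hx
    refine ⟨⟨u, hu⟩ * m * ⟨u, hu⟩⁻¹, hM.conj_mem m hm _, ?_⟩
    have e : (m : G) * c = c * m := S.others_comm U m.2 hc
    show u * (m : G) * u⁻¹ = u * c * m * (u * c)⁻¹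
    calc u * (m : G) * u⁻¹ = u * ((m : G) * c) * c⁻¹ * u⁻¹ := by group
      _ = u * (c * m) * c⁻¹ * u⁻¹ := by rw [e]
      _ = _ := by group
  have := S.fac_min U hs hle
  exact (Subgroup.map_injective U.1.subtype_injective)
    (this.trans (by rw [← MonoidHom.range_eq_map, Subgroup.range_subtype]))

/-- Conjugation on the factors. -/
def facPerm : G →* Equiv.Perm S.Fac where
  toFun g :=
    { toFun := fun U => ⟨conjS g U.1, by
        obtain ⟨h, hh⟩ := U.2; exact ⟨g * h, by rw [← conjS_conjS, hh]⟩⟩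
      invFun := fun U => ⟨conjS g⁻¹ U.1, by
        obtain ⟨h, hh⟩ := U.2; exact ⟨g⁻¹ * h, by rw [← conjS_conjS, hh]⟩⟩
      left_inv := fun U => Subtype.ext (by
        show conjS g⁻¹ (conjS g U.1) = _
        rw [conjS_conjS, inv_mul_cancel, conjS_one])
      right_inv := fun U => Subtype.ext (by
        show conjS g (conjS g⁻¹ U.1) = _
        rw [conjS_conjS, mul_inv_cancel, conjS_one]) }
  map_one' := Equiv.ext fun U => Subtype.ext (conjS_one U.1)
  map_mul' g h := Equiv.ext fun U => Subtype.ext (conjS_conjS g h U.1).symm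

theorem mem_kerFac {g : G} : g ∈ S.facPerm.ker ↔ ∀ U : S.Fac, conjS g U.1 = U.1 :=
  ⟨fun h U => congrArg (fun p : Equiv.Perm S.Fac => (p U).1) (MonoidHom.mem_ker.1 h),
    fun h => MonoidHom.mem_ker.2 (Equiv.ext fun U => Subtype.ext (h U))⟩

theorem le_kerFac : S.N ≤ S.facPerm.ker := by
  intro x hx
  rw [S.mem_kerFac]
  intro U
  apply le_antisymm
  · intro z hz
    rw [mem_conjS] at hz
    simpa [mul_assoc] using (S.fac_stable U).2.2 x hx _ hz
  · intro z hz
    rw [mem_conjS]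
    simpa using (S.fac_stable U).2.2 x⁻¹ (S.N.inv_mem hx) z hz

theorem centralize_fac {x : G} (h : ∀ U : S.Fac, ∀ u ∈ U.1, x * u = u * x) : x = 1 := by
  apply S.centralizer_trivial
  intro m hm
  have : (⨆ U : S.Fac, U.1) ≤ Subgroup.centralizer ({x} : Set G) := iSup_le fun U u hu =>
    Subgroup.mem_centralizer_singleton_iff.2 (h U u hu).symm
  rw [S.iSup_fac] at this
  exact (Subgroup.mem_centralizer_singleton_iff.1 (this hm)).symm

end Socle

end Cfsg.Agent.CompLen
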